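import Groth.Agent.Lib.UnitsRos.Affine
import Groth.Agent.Lib.OrbitH28.QFin
import Mathlib.RingTheory.HopfAlgebra.Convolution
import Mathlib.RingTheory.Ideal.MinimalPrime.Noetherian
import Mathlib.RingTheory.Noetherian.Basic
import Mathlib.RingTheory.RootsOfUnity.Basic
import Mathlib.RingTheory.Finiteness.Defs

/-!
# The character group of an affine algebraic group is finitely generated
-/

open WithConv

universe u

namespace Groth.Agent.WeightGrpH28

set_option linter.unusedSectionVars false
set_option linter.style.haveILetI false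

variable {k : Type u} [Field k] [IsAlgClosed k] {A : Type u} [CommRing A] [HopfAlgebra k A]
  [Algebra.FiniteType k A]

variable (k A) in
/-- Characters of the group of rational points given by regular functions. -/
def charGrp : Subgroup (WithConv (A →ₐ[k] k) →* kˣ) where
  carrier := {χ | ∃ a : A, ∀ g, (χ g : k) = g.ofConv a}
  one_mem' := ⟨1, fun g => by simp⟩
  mul_mem' := fun {χ χ'} ⟨a, ha⟩ ⟨b, hb⟩ => ⟨a * b, fun g => by simp [ha, hb]⟩
  inv_mem' := fun {χ} ⟨a, ha⟩ => ⟨HopfAlgebraStruct.antipode (R := k) a, fun g => by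
    have h : (g⁻¹).ofConv a = g.ofConv (HopfAlgebraStruct.antipode (R := k) a) := rfl
    rw [MonoidHom.inv_apply, ← map_inv, ha, h]⟩

/-- The function of a character. -/
noncomputable def val (χ : charGrp k A) : A := χ.2.choose

lemma val_spec (χ : charGrp k A) (g : WithConv (A →ₐ[k] k)) : (χ.1 g : k) = g.ofConv (val χ) :=
  χ.2.choose_spec g

lemma mk_eq (P : Ideal A) [P.IsPrime] {a b : A} (h : ∀ g : WithConv (A →ₐ[k] k), g.ofConv a = g.ofConv b) :
    Ideal.Quotient.mk P a = Ideal.Quotient.mk P b := by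
  rw [Ideal.Quotient.eq]
  obtain ⟨n, hn⟩ := OrbitH28.isNilpotent_of_forall_point (k := k) (a - b)
    (fun w => by simpa [sub_eq_zero] using h (toConv w))
  exact Ideal.IsPrime.mem_of_pow_mem ‹_› n (hn ▸ P.zero_mem)

/-- Restriction of a character to a component. -/
noncomputable def toQuot (P : Ideal A) [P.IsPrime] : charGrp k A →* A ⧸ P where
  toFun χ := Ideal.Quotient.mk P (val χ)
  map_one' := by
    rw [← map_one (Ideal.Quotient.mk P)]
    exact mk_eq (k := k) P fun g => by simp [← val_spec]
  map_mul' χ χ' := by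
    rw [← map_mul]
    exact mk_eq (k := k) P fun g => by simp [← val_spec]

variable (k A) in
theorem isNoetherian_charGrp : IsNoetherian ℤ (Additive (charGrp k A)) := by
  classical
  haveI : IsNoetherianRing A := Algebra.FiniteType.isNoetherianRing k A
  let Q := minimalPrimes A
  have hQ : Q.Finite := minimalPrimes.finite_of_isNoetherianRing A
  haveI : Fintype Q := hQ.fintype
  haveI : ∀ P : Q, (P : Ideal A).IsPrime := fun P => P.2.1.1
  choose ι hι φ hker _hfin using fun P : Q => UnitsRos.exists_hom_finite (k := k) (A ⧸ (P : Ideal A))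
  let Ψ : Additive (charGrp k A) →+ ((P : Q) → ι P → ℤ) := AddMonoidHom.mk'
    (fun x P => Multiplicative.toAdd (φ P ((toQuot (k := k) (P : Ideal A)).toHomUnits (Additive.toMul x))))
    (fun x y => funext fun P => by simp [toMul_add, toAdd_mul])
  let Ψ' := Ψ.toIntLinearMap
  have hfinK : Finite (LinearMap.ker Ψ') := by
    have hpt : ∀ P : Q, ∃ g : A →ₐ[k] k, (P : Ideal A) ≤ RingHom.ker g := fun P => by
      obtain ⟨m, hm, hle⟩ := Ideal.exists_le_maximal (P : Ideal A) (Ideal.IsPrime.ne_top inferInstance)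
      obtain ⟨g, rfl⟩ := OrbitH28.exists_point_eq (k := k) hm
      exact ⟨g, hle⟩
    choose g hg using hpt
    have hconst : ∀ (x : LinearMap.ker Ψ') (h : WithConv (A →ₐ[k] k)), ∃ P : Q,
        (Additive.toMul x.1).1 h = (Additive.toMul x.1).1 (toConv (g P)) := by
      intro x h
      obtain ⟨P, hP, hPle⟩ := Ideal.exists_minimalPrimes_le (I := (⊥ : Ideal A))
        (J := RingHom.ker h.ofConv) bot_le
      haveI : P.IsPrime := hP.1.1
      refine ⟨⟨P, hP⟩, ?_⟩
      have h0 : φ ⟨P, hP⟩ ((toQuot (k := k) P).toHomUnits (Additive.toMul x.1)) = 1 := by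
        have := congr_fun (LinearMap.mem_ker.1 x.2) ⟨P, hP⟩
        exact Multiplicative.toAdd.injective this
      obtain ⟨c, hc⟩ := UnitsRos.exists_const (hker ⟨P, hP⟩ _ h0)
      have hev : ∀ w : A →ₐ[k] k, P ≤ RingHom.ker w → w (val (Additive.toMul x.1)) = c := by
        intro w hw
        have hmem : val (Additive.toMul x.1) - algebraMap k A c ∈ P := by
          rw [← Ideal.Quotient.eq]
          exact hc.symm
        have := hw hmem
        rwa [RingHom.mem_ker, map_sub, AlgHom.commutes, sub_eq_zero, Algebra.algebraMap_self_apply] at this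
      ext
      rw [val_spec, val_spec, hev _ hPle, hev _ (hg ⟨P, hP⟩)]
    let N := (Fintype.card Q).factorial
    haveI : NeZero N := ⟨Nat.factorial_ne_zero _⟩
    have hroot : ∀ (x : LinearMap.ker Ψ') (P : Q), (Additive.toMul x.1).1 (toConv (g P)) ∈ rootsOfUnity N k := by
      intro x P
      let χ := (Additive.toMul x.1).1
      have hsub : (χ.range : Set kˣ) ⊆ Set.range fun P : Q => χ (toConv (g P)) := by
        rintro _ ⟨h, rfl⟩
        obtain ⟨P', hP'⟩ := hconst x h
        exact ⟨P', hP'.symm⟩
      haveI : Finite χ.range := ((Set.finite_range _).subset hsub).to_subtype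
      have hcard : Nat.card χ.range ≤ Fintype.card Q := by
        rw [← Nat.card_eq_fintype_card]
        exact (Nat.card_mono (Set.finite_range _) hsub).trans (Finite.card_range_le _)
      have h1 : (⟨χ (toConv (g P)), ⟨_, rfl⟩⟩ : χ.range) ^ Nat.card χ.range = 1 := pow_card_eq_one'
      have h2 : χ (toConv (g P)) ^ Nat.card χ.range = 1 := congrArg Subtype.val h1
      obtain ⟨d, hd⟩ := Nat.dvd_factorial Nat.card_pos hcard
      exact (mem_rootsOfUnity _ _).2 (by rw [show N = _ from hd, pow_mul, h2, one_pow])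
    refine Finite.of_injective (fun (x : LinearMap.ker Ψ') (P : Q) =>
      (⟨_, hroot x P⟩ : rootsOfUnity N k)) fun x y hxy => ?_
    refine Subtype.ext (Additive.toMul.injective (Subtype.ext (MonoidHom.ext fun h => ?_)))
    obtain ⟨P, hP⟩ := Ideal.exists_minimalPrimes_le (I := (⊥ : Ideal A))
      (J := RingHom.ker h.ofConv) bot_le
    obtain ⟨P', hP'⟩ := hconst (x - y) h
    have h3 : (Additive.toMul x.1).1 (toConv (g P')) = (Additive.toMul y.1).1 (toConv (g P')) :=
      congrArg Subtype.val (congr_fun hxy P')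
    simp only [Submodule.coe_sub, toMul_sub, Subgroup.coe_div, MonoidHom.div_apply, h3, div_self',
      div_eq_one] at hP'
    exact hP'
  exact isNoetherian_of_range_eq_ker (LinearMap.ker Ψ').subtype Ψ' (Submodule.range_subtype _)

/-- Finitely many members of a set of characters generate all of them. -/
theorem exists_finset (S : Set (WithConv (A →ₐ[k] k) →* kˣ)) (hS : S ⊆ charGrp k A) :
    ∃ s : Finset (WithConv (A →ₐ[k] k) →* kˣ), ↑s ⊆ S ∧
      ∀ χ ∈ S, ∃ e : (WithConv (A →ₐ[k] k) →* kˣ) → ℤ, χ = ∏ ψ ∈ s, ψ ^ e ψ := by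
  classical
  haveI := isNoetherian_charGrp k A
  let T : Set (Additive (charGrp k A)) := {x | (Additive.toMul x).1 ∈ S}
  obtain ⟨t, htT, ht⟩ := (Submodule.fg_span_iff_fg_span_finset_subset T).1
    (IsNoetherian.noetherian (Submodule.span ℤ T))
  let val' : Additive (charGrp k A) → (WithConv (A →ₐ[k] k) →* kˣ) := fun x => (Additive.toMul x).1
  have hinj : Function.Injective val' := Subtype.val_injective.comp Additive.toMul.injective
  refine ⟨t.image val', ?_, fun χ hχ => ?_⟩
  · intro ψ hψ
    obtain ⟨x, hx, rfl⟩ := Finset.mem_image.1 hψ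
    exact htT hx
  have hmem : Additive.ofMul (⟨χ, hS hχ⟩ : charGrp k A) ∈ Submodule.span ℤ T := Submodule.subset_span hχ
  rw [ht] at hmem
  obtain ⟨e, -, he⟩ := Submodule.mem_span_finset.1 hmem
  refine ⟨fun ψ => if hψ : ψ ∈ charGrp k A then e (Additive.ofMul ⟨ψ, hψ⟩) else 0, ?_⟩
  rw [Finset.prod_image fun x _ y _ h => hinj h]
  have := congrArg (fun x => ((Additive.toMul x).1 : WithConv (A →ₐ[k] k) →* kˣ)) he
  simp only [toMul_sum, toMul_zsmul, Subgroup.val_finset_prod, toMul_ofMul,
    SubgroupClass.coe_zpow] at this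
  refine this.symm.trans (Finset.prod_congr rfl fun x _ => ?_)
  simp [val']

end Groth.Agent.WeightGrpH28
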